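import Cfsg.Agent.EqLemmas

/-!
Upper bounds for the kernels of stem extensions (Schur multipliers).
Main results:
* `mem_commutator_of_not_dvd_index` : a central p-element of the derived group lies in `⁅H, H⁆`
  for every subgroup `H` containing it whose index is prime to p.
* `eq_one_of_cyclic` : kernel p-part is trivial when the quotient has a cyclic subgroup of p'-index.
* `exists_bound_of_dihedral` : p-part is in an elementary cyclic subgroup when the p'-index subgroup is
  generated by `r, s` with `s r s⁻¹ = r⁻¹`.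
* `ker_le_of_primary`, `hasCyclicSchurMultiplier_two`, `HasSchurMultiplier` transport lemmas.
-/

set_option autoImplicit false

open scoped commutatorElement

namespace Cfsg.Agent.Schur

universe u v

variable {G : Type v} [Group G] {Γ : Type u} [Group Γ]

/-- A central element of p-power order in the derived group lies in the derived group of every subgroup
of index prime to p containing it. -/
theorem mem_commutator_of_not_dvd_index [Finite Γ] {p k : ℕ} (hp : p.Prime) (H : Subgroup Γ)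
    (hH : ¬ p ∣ H.index) {z : Γ} (hzH : z ∈ H) (hzc : z ∈ Subgroup.center Γ)
    (hz' : z ∈ commutator Γ) (hord : z ^ p ^ k = 1) :
    (⟨z, hzH⟩ : ↥H) ∈ commutator ↥H := by
  have key : ∀ (m : ℕ) (g : Γ), g⁻¹ * z ^ m * g ∈ H → g⁻¹ * z ^ m * g = z ^ m := by
    intro m g _
    have h := (Subgroup.mem_center_iff.1 (Subgroup.pow_mem _ hzc m)) g
    rw [mul_assoc, ← h, ← mul_assoc, inv_mul_cancel, one_mul]
  have h1 := MonoidHom.transfer_eq_pow (Abelianization.of (G := ↥H)) z key
  have h2 : MonoidHom.transfer (Abelianization.of (G := ↥H)) z = 1 :=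
    Abelianization.commutator_subset_ker _ hz'
  have h3 : (⟨z, hzH⟩ : ↥H) ^ H.index ∈ commutator ↥H := by
    rw [← Abelianization.ker_of]
    exact (h1.symm.trans h2 :)
  have hcop : Nat.Coprime H.index (p ^ k) :=
    (((hp.coprime_iff_not_dvd).2 hH).symm).pow_right k
  have h4 : (⟨z, hzH⟩ : ↥H) ^ (p ^ k) = 1 := Subtype.ext hord
  obtain ⟨m, hm⟩ := exists_pow_eq_self_of_coprime
    (hcop.coprime_dvd_right (orderOf_dvd_of_pow_eq_one h4))
  rw [← hm]
  exact Subgroup.pow_mem _ h3 m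

/-- In a group generated by the centre and two elements `a, b` with `b a b⁻¹ a` central, the derived group
lies in the cyclic group generated by `⁅a, b⁆`, and its central elements square to one. -/
theorem commutator_inf_center_of_two (a b : Γ)
    (hgen : Subgroup.closure {a, b} ⊔ Subgroup.center Γ = ⊤)
    (hrel : b * a * b⁻¹ * a ∈ Subgroup.center Γ) :
    ∀ x ∈ commutator Γ, x ∈ Subgroup.zpowers ⁅a, b⁆ ∧ (x ∈ Subgroup.center Γ → x ^ 2 = 1) := by
  have hc : ⁅a, b⁆ = a * a * (b * a * b⁻¹ * a)⁻¹ := by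
    rw [commutatorElement_def]; group
  have hcz : ∀ g : Γ, g * (b * a * b⁻¹ * a) = (b * a * b⁻¹ * a) * g :=
    fun g => (Subgroup.mem_center_iff.1 hrel) g
  have hca : a * ⁅a, b⁆ * a⁻¹ = ⁅a, b⁆ := by
    have hcomm : Commute a (a * a * (b * a * b⁻¹ * a)⁻¹) :=
      ((Commute.refl a).mul_right (Commute.refl a)).mul_right (Commute.inv_right (hcz a))
    rw [hc, hcomm.eq, mul_inv_cancel_right]
  have hcb : b * ⁅a, b⁆ * b⁻¹ = ⁅a, b⁆⁻¹ := by
    have h1 : b * a * b⁻¹ = (b * a * b⁻¹ * a) * a⁻¹ := by group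
    have h2 : b * (b * a * b⁻¹ * a)⁻¹ * b⁻¹ = (b * a * b⁻¹ * a)⁻¹ := by
      have := Commute.inv_right (hcz b : Commute b (b * a * b⁻¹ * a))
      rw [this.eq, mul_inv_cancel_right]
    generalize hz : b * a * b⁻¹ * a = z at *
    calc b * ⁅a, b⁆ * b⁻¹ = (b * a * b⁻¹) * (b * a * b⁻¹) * (b * z⁻¹ * b⁻¹) := by rw [hc]; group
      _ = (z * a⁻¹) * (z * a⁻¹) * z⁻¹ := by rw [h1, h2]
      _ = (z * a⁻¹) * ((z * a⁻¹) * z⁻¹) := mul_assoc _ _ _
      _ = (z * a⁻¹) * a⁻¹ := by
          rw [← hcz a⁻¹, mul_inv_cancel_right]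
      _ = ⁅a, b⁆⁻¹ := by rw [hc]; group
  have hgen' : ∀ K : Subgroup Γ, a ∈ K → b ∈ K → Subgroup.center Γ ≤ K → K = ⊤ := by
    intro K ha hb hK
    refine top_le_iff.1 (hgen ▸ sup_le ((Subgroup.closure_le _).2 ?_) hK)
    rintro x (rfl | rfl) <;> assumption
  set N := Subgroup.zpowers ⁅a, b⁆ with hN
  have memN : ∀ g : Γ, (g * ⁅a, b⁆ * g⁻¹ = ⁅a, b⁆ ∨ g * ⁅a, b⁆ * g⁻¹ = ⁅a, b⁆⁻¹) →
      g ∈ Subgroup.normalizer (N : Set Γ) := by
    intro g hg
    have himg : N.map (MulAut.conj g).toMonoidHom = N := by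
      rw [hN, MonoidHom.map_zpowers]
      rcases hg with h | h
      · exact congrArg Subgroup.zpowers h
      · exact (congrArg Subgroup.zpowers h).trans Subgroup.zpowers_inv
    rw [Subgroup.mem_normalizer_iff]
    intro x
    constructor
    · intro hx
      rw [← himg]
      exact ⟨x, hx, rfl⟩
    · intro hx
      rw [← himg] at hx
      obtain ⟨y, hy, hyx⟩ := hx
      have : y = x := (MulAut.conj g).injective hyx
      exact this ▸ hy
  have hnormal : N.Normal := by
    rw [← Subgroup.normalizer_eq_top_iff]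
    exact hgen' _ (memN a (Or.inl hca)) (memN b (Or.inr hcb))
      (fun z hz => memN z (Or.inl (by
        rw [← (Subgroup.mem_center_iff.1 hz) ⁅a, b⁆, mul_inv_cancel_right])))
  let π := QuotientGroup.mk' N
  have hab : π a * π b = π b * π a := by
    rw [← commutatorElement_eq_one_iff_mul_comm, ← map_commutatorElement]
    exact (QuotientGroup.eq_one_iff _).2 (Subgroup.mem_zpowers _)
  have hcentral : ∀ z ∈ Subgroup.center Γ, π z ∈ Subgroup.center (Γ ⧸ N) := by
    intro z hz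
    rw [Subgroup.mem_center_iff]
    intro q
    induction q using QuotientGroup.induction_on with
    | H g => exact congrArg π ((Subgroup.mem_center_iff.1 hz) g)
  have hA : ∀ g, π g * π a = π a * π g := by
    have : (Subgroup.centralizer {π a}).comap π = ⊤ := hgen' _
      (by simp [Subgroup.mem_centralizer_singleton_iff])
      (by simp [Subgroup.mem_centralizer_singleton_iff, hab])
      (fun z hz => by
        simp only [Subgroup.mem_comap, Subgroup.mem_centralizer_singleton_iff]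
        exact ((Subgroup.mem_center_iff.1 (hcentral z hz)) _).symm)
    intro g
    have hg : g ∈ (Subgroup.centralizer {π a}).comap π := this ▸ Subgroup.mem_top g
    exact Subgroup.mem_centralizer_singleton_iff.1 hg
  have hB : ∀ g, π g * π b = π b * π g := by
    have : (Subgroup.centralizer {π b}).comap π = ⊤ := hgen' _
      (by simp [Subgroup.mem_centralizer_singleton_iff, hab])
      (by simp [Subgroup.mem_centralizer_singleton_iff])
      (fun z hz => by
        simp only [Subgroup.mem_comap, Subgroup.mem_centralizer_singleton_iff]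
        exact ((Subgroup.mem_center_iff.1 (hcentral z hz)) _).symm)
    intro g
    have hg : g ∈ (Subgroup.centralizer {π b}).comap π := this ▸ Subgroup.mem_top g
    exact Subgroup.mem_centralizer_singleton_iff.1 hg
  have hall : (Subgroup.center (Γ ⧸ N)).comap π = ⊤ := by
    refine hgen' _ ?_ ?_ (fun z hz => hcentral z hz) <;>
      rw [Subgroup.mem_comap, Subgroup.mem_center_iff] <;> intro q <;>
      induction q using QuotientGroup.induction_on with
      | H g => first | exact hA g | exact hB g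
  have hle : commutator Γ ≤ N := by
    rw [commutator_def, Subgroup.commutator_le]
    intro x _ y _
    rw [← QuotientGroup.eq_one_iff]
    change π ⁅x, y⁆ = 1
    rw [map_commutatorElement, commutatorElement_eq_one_iff_mul_comm]
    have hy : y ∈ (Subgroup.center (Γ ⧸ N)).comap π := hall ▸ Subgroup.mem_top y
    exact (Subgroup.mem_center_iff.1 hy) _
  intro x hx
  refine ⟨hle hx, fun hxz => ?_⟩
  obtain ⟨m, rfl⟩ := Subgroup.mem_zpowers_iff.1 (hle hx)
  have h1 : b * ⁅a, b⁆ ^ m * b⁻¹ = (⁅a, b⁆ ^ m)⁻¹ := by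
    rw [← MulAut.conj_apply, map_zpow, MulAut.conj_apply, hcb, inv_zpow]
  have h2 : b * ⁅a, b⁆ ^ m * b⁻¹ = ⁅a, b⁆ ^ m := by
    rw [(Subgroup.mem_center_iff.1 hxz) b, mul_inv_cancel_right]
  rw [pow_two]
  exact mul_eq_one_iff_eq_inv.2 (h2.symm.trans h1)

section stem

variable [Finite Γ] {σ : Γ →* G}

theorem mem_commutator_comap (hσ : Cfsg.IsStemExtension σ) {p k : ℕ} (hp : p.Prime) (Q : Subgroup G)
    (hQ : ¬ p ∣ Q.index) {z : Γ} (hz : z ∈ σ.ker) (hord : z ^ p ^ k = 1) :
    ∃ hzH : z ∈ Q.comap σ, (⟨z, hzH⟩ : ↥(Q.comap σ)) ∈ commutator ↥(Q.comap σ) := by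
  have hzH : z ∈ Q.comap σ := by
    rw [Subgroup.mem_comap, MonoidHom.mem_ker.1 hz]; exact one_mem _
  exact ⟨hzH, mem_commutator_of_not_dvd_index hp _
    (by rwa [Q.index_comap_of_surjective hσ.1]) hzH (hσ.2.1 hz) (hσ.2.2 hz) hord⟩

/-- A cyclic subgroup of index prime to p kills the p-part of the multiplier. -/
theorem eq_one_of_cyclic (hσ : Cfsg.IsStemExtension σ) {p k : ℕ} (hp : p.Prime) (r : G)
    (hQ : ¬ p ∣ (Subgroup.zpowers r).index) {z : Γ} (hz : z ∈ σ.ker) (hord : z ^ p ^ k = 1) :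
    z = 1 := by
  obtain ⟨hzH, hmem⟩ := mem_commutator_comap hσ hp _ hQ hz hord
  obtain ⟨a, rfl⟩ := hσ.1 r
  have hbot : commutator ↥((Subgroup.zpowers (σ a)).comap σ) = ⊥ := by
    rw [commutator_def, Subgroup.commutator_eq_bot_iff_le_centralizer]
    rintro ⟨x, hx⟩ -
    rw [Subgroup.mem_centralizer_iff]
    rintro ⟨y, hy⟩ -
    obtain ⟨i, hi⟩ := Subgroup.mem_zpowers_iff.1 hx
    obtain ⟨j, hj⟩ := Subgroup.mem_zpowers_iff.1 hy
    have hx' : (a ^ i)⁻¹ * x ∈ Subgroup.center Γ := hσ.2.1 (by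
      rw [MonoidHom.mem_ker, map_mul, map_inv, map_zpow, hi, inv_mul_cancel])
    have hy' : (a ^ j)⁻¹ * y ∈ Subgroup.center Γ := hσ.2.1 (by
      rw [MonoidHom.mem_ker, map_mul, map_inv, map_zpow, hj, inv_mul_cancel])
    have c1 : Commute (a ^ i * ((a ^ i)⁻¹ * x)) (a ^ j * ((a ^ j)⁻¹ * y)) := by
      refine Commute.mul_left ?_ ?_
      · exact Commute.mul_right (Commute.zpow_zpow_self a i j)
          ((Subgroup.mem_center_iff.1 hy') _)
      · exact ((Subgroup.mem_center_iff.1 hx') _).symm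
    rw [mul_inv_cancel_left, mul_inv_cancel_left] at c1
    exact Subtype.ext c1.eq.symm
  rw [hbot, Subgroup.mem_bot] at hmem
  exact congrArg Subtype.val hmem

/-- A subgroup of index prime to p generated by `r, s` with `s r s⁻¹ = r⁻¹` bounds the p-part by 2. -/
theorem exists_bound_of_dihedral (hσ : Cfsg.IsStemExtension σ) {p : ℕ} (hp : p.Prime) (r s : G)
    (hrs : s * r * s⁻¹ = r⁻¹) (hQ : ¬ p ∣ (Subgroup.closure {r, s}).index) :
    ∃ c : Γ, ∀ (k : ℕ) (z : Γ), z ∈ σ.ker → z ^ p ^ k = 1 →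
      z ∈ Subgroup.zpowers c ∧ z ^ 2 = 1 := by
  obtain ⟨a, rfl⟩ := hσ.1 r
  obtain ⟨b, rfl⟩ := hσ.1 s
  refine ⟨⁅a, b⁆, fun k z hz hord => ?_⟩
  obtain ⟨hzH, hmem⟩ := mem_commutator_comap hσ hp _ hQ hz hord
  set H := (Subgroup.closure {σ a, σ b}).comap σ with hH
  have haH : a ∈ H := Subgroup.subset_closure (Set.mem_insert _ _)
  have hbH : b ∈ H := Subgroup.subset_closure (Set.mem_insert_of_mem _ rfl)
  have hHle : H = Subgroup.closure {a, b} ⊔ σ.ker := by
    rw [hH, ← Subgroup.comap_map_eq, MonoidHom.map_closure, Set.image_pair]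
  have hcen : ∀ x ∈ σ.ker, ∀ hx : x ∈ H, (⟨x, hx⟩ : ↥H) ∈ Subgroup.center ↥H := by
    intro x hxk hx
    rw [Subgroup.mem_center_iff]
    exact fun y => Subtype.ext ((Subgroup.mem_center_iff.1 (hσ.2.1 hxk)) y)
  have hgen : Subgroup.closure {(⟨a, haH⟩ : ↥H), ⟨b, hbH⟩} ⊔ Subgroup.center ↥H = ⊤ := by
    rw [eq_top_iff]
    rintro ⟨x, hx⟩ -
    have hx' : x ∈ Subgroup.closure {a, b} ⊔ σ.ker := hHle ▸ hx
    rw [Subgroup.mem_sup_of_normal_right] at hx'
    obtain ⟨y, hy, w, hw, rfl⟩ := hx'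
    have hyH : y ∈ H := hHle ▸ Subgroup.mem_sup_left hy
    have hwH : w ∈ H := hHle ▸ Subgroup.mem_sup_right hw
    have : (⟨y * w, hx⟩ : ↥H) = ⟨y, hyH⟩ * ⟨w, hwH⟩ := rfl
    rw [this]
    refine Subgroup.mul_mem_sup ?_ (hcen w hw hwH)
    have hmap : (Subgroup.closure {(⟨a, haH⟩ : ↥H), ⟨b, hbH⟩}).map H.subtype
        = Subgroup.closure {a, b} := by
      rw [MonoidHom.map_closure, Set.image_pair]; rfl
    rw [← hmap] at hy
    obtain ⟨y', hy', hyy⟩ := hy
    have : y' = ⟨y, hyH⟩ := Subtype.ext hyy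
    exact this ▸ hy'
  have hrel : (⟨b, hbH⟩ : ↥H) * ⟨a, haH⟩ * ⟨b, hbH⟩⁻¹ * ⟨a, haH⟩ ∈ Subgroup.center ↥H := by
    refine hcen (b * a * b⁻¹ * a) ?_ _
    rw [MonoidHom.mem_ker, map_mul, map_mul, map_mul, map_inv, hrs, inv_mul_cancel]
  obtain ⟨h1, h2⟩ := commutator_inf_center_of_two _ _ hgen hrel _ hmem
  refine ⟨?_, congrArg Subtype.val (h2 (hcen z hz hzH))⟩
  obtain ⟨m, hm⟩ := Subgroup.mem_zpowers_iff.1 h1
  refine Subgroup.mem_zpowers_iff.2 ⟨m, ?_⟩
  have h := congrArg H.subtype hm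
  rw [map_zpow, map_commutatorElement] at h
  exact h

end stem

/-- A subgroup containing the elements of prime power order of `K` contains `K`. -/
theorem le_of_primary [Finite Γ] {K : Subgroup Γ} {S : Subgroup Γ}
    (h : ∀ p : ℕ, p.Prime → ∀ (k : ℕ) (z : Γ), z ∈ K → z ^ p ^ k = 1 → z ∈ S) : K ≤ S := by
  have key : ∀ n : ℕ, n ≠ 0 → ∀ z ∈ K, z ^ n = 1 → z ∈ S := by
    intro n
    induction n using Nat.recOnPosPrimePosCoprime with
    | prime_pow p k hp _ => exact fun _ z hz hn => h p hp k z hz hn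
    | zero => exact fun h0 => absurd rfl h0
    | one => exact fun _ z _ hn => by simpa [pow_one] using (pow_one z ▸ hn) ▸ one_mem S
    | coprime a b ha hb hab iha ihb =>
      intro _ z hz hn
      have h1 : z ^ a ∈ S := ihb (by omega) _ (K.pow_mem hz a) (by rwa [← pow_mul])
      have h2 : z ^ b ∈ S := iha (by omega) _ (K.pow_mem hz b) (by rwa [← pow_mul, mul_comm])
      have hbez := Nat.gcd_eq_gcd_ab a b
      rw [Nat.coprime_iff_gcd_eq_one.1 hab] at hbez
      have : z = (z ^ a) ^ Nat.gcdA a b * (z ^ b) ^ Nat.gcdB a b := by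
        rw [← zpow_natCast z a, ← zpow_natCast z b, ← zpow_mul, ← zpow_mul, ← zpow_add]
        calc z = z ^ (1 : ℤ) := (zpow_one z).symm
          _ = _ := by congr 1
      rw [this]
      exact S.mul_mem (S.zpow_mem h1 _) (S.zpow_mem h2 _)
  intro z hz
  exact key (orderOf z) (orderOf_pos z).ne' z hz (pow_orderOf_eq_one z)

end Cfsg.Agent.Schur
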