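import Cfsg.Agent.Lib.Schur.OrderTwo

/-!
The double cover `SL(2,7) → SL(3,2)`, given by an explicit table.
Main results: `coverHom`, `coverHom_isStem`, `card_sl32`, `card_ker_coverHom`.
-/

set_option autoImplicit false

open scoped MatrixGroups commutatorElement

namespace Cfsg.Agent.Schur

abbrev A7 : Type := Matrix.SpecialLinearGroup (Fin 2) (ZMod 7)
abbrev B2 : Type := Matrix.SpecialLinearGroup (Fin 3) (ZMod 2)

/-- `T x = (1 x; 0 1)`. -/
def cT (x : ZMod 7) : A7 := ⟨!![1, x; 0, 1], by simp [Matrix.det_fin_two_of]⟩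
/-- `W = (0 -1; 1 0)`. -/
def cW : A7 := ⟨!![0, 6; 1, 0], by decide⟩

/-- Images of the powers of `T 1`. -/
def imT : ZMod 7 → B2 :=
  ![⟨!![1,0,0;0,1,0;0,0,1], by decide⟩, ⟨!![0,0,1;1,0,1;0,1,0], by decide⟩,
    ⟨!![0,1,0;0,1,1;1,0,1], by decide⟩, ⟨!![1,0,1;1,1,1;0,1,1], by decide⟩,
    ⟨!![0,1,1;1,1,0;1,1,1], by decide⟩, ⟨!![1,1,1;1,0,0;1,1,0], by decide⟩,
    ⟨!![1,1,0;0,0,1;1,0,0], by decide⟩]
/-- Image of `W`. -/
def imW : B2 := ⟨!![0,0,1;1,1,1;1,0,0], by decide⟩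
/-- Images of the diagonal matrices. -/
def imD : ZMod 7 → B2 :=
  ![⟨!![1,0,0;0,1,0;0,0,1], by decide⟩, ⟨!![1,0,0;0,1,0;0,0,1], by decide⟩,
    ⟨!![0,0,1;1,1,1;1,0,1], by decide⟩, ⟨!![1,0,1;0,1,1;1,0,0], by decide⟩,
    ⟨!![1,0,1;0,1,1;1,0,0], by decide⟩, ⟨!![0,0,1;1,1,1;1,0,1], by decide⟩,
    ⟨!![1,0,0;0,1,0;0,0,1], by decide⟩]

/-- The map on entries. -/
def coverEnt (a b c d : ZMod 7) : B2 :=
  if c = 0 then imD a * imT (b * a ^ 5) else imT (a * c ^ 5) * imW * imD c * imT (d * c ^ 5)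

/-- The map. -/
def coverFun (g : A7) : B2 := coverEnt (g.1 0 0) (g.1 0 1) (g.1 1 0) (g.1 1 1)

theorem entry_T : ∀ a b c d : ZMod 7, a * d - b * c = 1 →
    coverEnt (a + c) (b + d) c d = imT 1 * coverEnt a b c d := by decide +kernel

theorem entry_W : ∀ a b c d : ZMod 7, a * d - b * c = 1 →
    coverEnt (6 * c) (6 * d) a b = imW * coverEnt a b c d := by decide +kernel

theorem entry_ker : ∀ a b c d : ZMod 7, a * d - b * c = 1 → coverEnt a b c d = 1 →
    b = 0 ∧ c = 0 ∧ (a = 1 ∧ d = 1 ∨ a = 6 ∧ d = 6) := by decide +kernel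

theorem det_eq (g : A7) : g.1 0 0 * g.1 1 1 - g.1 0 1 * g.1 1 0 = 1 := by
  rw [← Matrix.det_fin_two]; exact g.2

theorem ext_entries {g h : A7} (h1 : g.1 0 0 = h.1 0 0) (h2 : g.1 0 1 = h.1 0 1)
    (h3 : g.1 1 0 = h.1 1 0) (h4 : g.1 1 1 = h.1 1 1) : g = h := by
  apply Subtype.ext
  ext i j
  fin_cases i <;> fin_cases j <;> assumption

theorem val_mul (x y : A7) (i j : Fin 2) :
    (x * y).1 i j = x.1 i 0 * y.1 0 j + x.1 i 1 * y.1 1 j := by
  show (x.1 * y.1) i j = _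
  rw [Matrix.mul_apply, Fin.sum_univ_two]

theorem cT_val (x : ZMod 7) : (cT x).1 = !![1, x; 0, 1] := rfl
theorem cW_val : cW.1 = !![0, 6; 1, 0] := rfl

theorem coverFun_one : coverFun 1 = 1 := by decide +kernel

theorem coverFun_T (g : A7) : coverFun (cT 1 * g) = imT 1 * coverFun g := by
  have h := entry_T _ _ _ _ (det_eq g)
  simpa [coverFun, cT_val, val_mul] using h

theorem coverFun_W (g : A7) : coverFun (cW * g) = imW * coverFun g := by
  have h := entry_W _ _ _ _ (det_eq g)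
  simpa [coverFun, cW_val, val_mul] using h

/-- Elements on which the map is multiplicative. -/
def goodSet : Submonoid A7 where
  carrier := {h | ∀ g, coverFun (h * g) = coverFun h * coverFun g}
  one_mem' := fun g => by rw [one_mul, coverFun_one, one_mul]
  mul_mem' := fun {x y} hx hy g => by rw [mul_assoc, hx, hy, hx, mul_assoc]

theorem cT_one_mem : cT 1 ∈ goodSet := fun g => by
  have h1 := coverFun_T 1
  rw [mul_one, coverFun_one, mul_one] at h1
  rw [coverFun_T, h1]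

theorem cW_mem : cW ∈ goodSet := fun g => by
  have h1 := coverFun_W 1
  rw [mul_one, coverFun_one, mul_one] at h1
  rw [coverFun_W, h1]

theorem cT_mem (x : ZMod 7) : cT x ∈ goodSet := by
  have h : ∀ x : ZMod 7, cT x = cT 1 ^ x.val := by decide +kernel
  exact h x ▸ pow_mem cT_one_mem _

/-- `diag(a, a⁻¹)` as a word. -/
def cD (a : ZMod 7) : A7 := cW * cW * (cT a * cW * cT (a ^ 5) * cW * cT a * cW)

theorem cD_mem (a : ZMod 7) : cD a ∈ goodSet := by
  unfold cD
  exact mul_mem (mul_mem cW_mem cW_mem)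
    (mul_mem (mul_mem (mul_mem (mul_mem (mul_mem (cT_mem _) cW_mem) (cT_mem _)) cW_mem) (cT_mem _)) cW_mem)

theorem cD_val : ∀ a : ZMod 7, a ≠ 0 → (cD a).1 0 0 = a ∧ (cD a).1 0 1 = 0 ∧ (cD a).1 1 0 = 0 ∧
    (cD a).1 1 1 = a ^ 5 := by decide +kernel

theorem decomp_zero : ∀ a b d : ZMod 7, a * d = 1 →
    a ≠ 0 ∧ a * (b * a ^ 5) = b ∧ a ^ 5 = d := by decide +kernel

theorem decomp_ne : ∀ a b c d : ZMod 7, a * d - b * c = 1 → c ≠ 0 →
    a * c ^ 5 * c = a ∧ a * c ^ 5 * c * (d * c ^ 5) + 6 * c ^ 5 = b ∧ c * (d * c ^ 5) = d := by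
  decide +kernel

theorem mem_goodSet (g : A7) : g ∈ goodSet := by
  have hd := det_eq g
  by_cases hc : g.1 1 0 = 0
  · obtain ⟨ha, h2, h3⟩ := decomp_zero (g.1 0 0) (g.1 0 1) (g.1 1 1) (by simpa [hc] using hd)
    obtain ⟨e1, e2, e3, e4⟩ := cD_val _ ha
    have : g = cD (g.1 0 0) * cT (g.1 0 1 * g.1 0 0 ^ 5) := by
      rw [h3] at h2
      apply ext_entries <;> simp [cT_val, val_mul, e1, e2, e3, e4, hc, h2, h3]
    exact this ▸ mul_mem (cD_mem _) (cT_mem _)
  · obtain ⟨h1, h2, h3⟩ := decomp_ne _ _ _ _ hd hc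
    obtain ⟨e1, e2, e3, e4⟩ := cD_val _ hc
    rw [h1] at h2
    have : g = cT (g.1 0 0 * g.1 1 0 ^ 5) * cW * cD (g.1 1 0) * cT (g.1 1 1 * g.1 1 0 ^ 5) := by
      apply ext_entries <;>
        simp [cT_val, cW_val, val_mul, e1, e2, e3, e4, h1, h2, h3]
    exact this ▸ mul_mem (mul_mem (mul_mem (cT_mem _) cW_mem) (cD_mem _)) (cT_mem _)

/-- The cover as a homomorphism. -/
def coverHom : A7 →* B2 where
  toFun := coverFun
  map_one' := coverFun_one
  map_mul' x y := mem_goodSet x y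

/-- `-1` in `SL(2,7)`. -/
def negOne : A7 := ⟨!![6, 0; 0, 6], by decide⟩

theorem negOne_val : negOne.1 = !![6, 0; 0, 6] := rfl

theorem mem_ker_iff {g : A7} : g ∈ coverHom.ker ↔ g = 1 ∨ g = negOne := by
  constructor
  · intro h
    obtain ⟨hb, hc, ⟨ha, hd⟩ | ⟨ha, hd⟩⟩ := entry_ker _ _ _ _ (det_eq g) h
    · left; apply ext_entries <;> simp [ha, hb, hc, hd]
    · right; apply ext_entries <;> simp [negOne, ha, hb, hc, hd]
  · rintro (rfl | rfl)
    · exact one_mem _
    · show coverFun negOne = 1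
      decide +kernel

theorem card_ker_coverHom : Nat.card coverHom.ker = 2 := by
  have h : (coverHom.ker : Set A7) = {1, negOne} := Set.ext fun g => mem_ker_iff
  have h2 := Set.ncard_pair (show (1 : A7) ≠ negOne by decide +kernel)
  rw [← h, ← Nat.card_coe_set_eq] at h2
  exact h2

/-- `(2 3; 3 -2)`. -/
def cY : A7 := ⟨!![2, 3; 3, 5], by decide⟩

theorem negOne_eq : cW * cY = negOne * (cY * cW) := by decide +kernel

theorem coverHom_ker_le_commutator : coverHom.ker ≤ commutator A7 := by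
  intro g hg
  rcases mem_ker_iff.1 hg with rfl | rfl
  · exact one_mem _
  · have : negOne = ⁅cW, cY⁆ := by
      rw [commutatorElement_def, negOne_eq]; group
    rw [this, commutator_def]
    exact Subgroup.commutator_mem_commutator (Subgroup.mem_top _) (Subgroup.mem_top _)

theorem coverHom_ker_le_center : coverHom.ker ≤ Subgroup.center A7 := by
  intro g hg
  rw [Subgroup.mem_center_iff]
  intro h
  rcases mem_ker_iff.1 hg with rfl | rfl
  · rw [mul_one, one_mul]
  · apply ext_entries <;> simp [negOne_val, val_mul, mul_comm]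

set_option maxRecDepth 100000 in
theorem card_sl32 : Nat.card B2 = 168 := by
  rw [Nat.card_eq_fintype_card]
  decide +kernel

theorem card_sl27 : Nat.card A7 = 336 := by
  let e : A7 ≃ {q : ZMod 7 × ZMod 7 × ZMod 7 × ZMod 7 // q.1 * q.2.2.2 - q.2.1 * q.2.2.1 = 1} :=
    { toFun := fun g => ⟨(g.1 0 0, g.1 0 1, g.1 1 0, g.1 1 1), det_eq g⟩
      invFun := fun q => ⟨!![q.1.1, q.1.2.1; q.1.2.2.1, q.1.2.2.2], by rw [Matrix.det_fin_two_of]; exact q.2⟩
      left_inv := fun g => by apply ext_entries <;> simp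
      right_inv := fun q => by ext <;> simp }
  rw [Nat.card_congr e, Nat.card_eq_fintype_card]
  decide +kernel

theorem coverHom_surjective : Function.Surjective coverHom := by
  rw [← MonoidHom.range_eq_top]
  apply Subgroup.eq_top_of_card_eq
  have h1 : Nat.card A7 = Nat.card (A7 ⧸ coverHom.ker) * Nat.card coverHom.ker :=
    Subgroup.card_eq_card_quotient_mul_card_subgroup _
  rw [card_sl27, card_ker_coverHom, Nat.card_congr (QuotientGroup.quotientKerEquivRange coverHom).toEquiv] at h1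
  rw [card_sl32]
  omega

theorem coverHom_isStem : Cfsg.IsStemExtension coverHom :=
  ⟨coverHom_surjective, coverHom_ker_le_center, coverHom_ker_le_commutator⟩

end Cfsg.Agent.Schur
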