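import Cfsg.Agent.Lib.Schur.Basic

/-!
Criteria for a trivial Schur multiplier.
Main results: `eq_one_of_semidihedral` (subgroup of p'-index with `s r s⁻¹ = r ^ 3`, `r` of order 8
and `s` an involution), `eq_one_of_inverted_pair` (subgroup of p'-index generated by two commuting
elements, one inverted and one centralised by the same element), `hasCyclicSchurMultiplier_one`.
-/

set_option autoImplicit false

open scoped commutatorElement

namespace Cfsg.Agent.Schur

universe u v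

variable {G : Type v} [Group G] {Γ : Type u} [Group Γ]

/-- If `Γ` is generated by the centre and `a`, `b`, the derived group lies in any normal subgroup
containing `⁅a, b⁆`. -/
theorem commutator_le_of_two (a b : Γ)
    (hgen : Subgroup.closure {a, b} ⊔ Subgroup.center Γ = ⊤) (N : Subgroup Γ) [N.Normal]
    (hN : ⁅a, b⁆ ∈ N) : commutator Γ ≤ N := by
  let π := QuotientGroup.mk' N
  have hab : π a * π b = π b * π a := by
    rw [← commutatorElement_eq_one_iff_mul_comm, ← map_commutatorElement]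
    exact (QuotientGroup.eq_one_iff _).2 hN
  have hgen' : ∀ K : Subgroup Γ, a ∈ K → b ∈ K → Subgroup.center Γ ≤ K → K = ⊤ := by
    intro K ha hb hK
    refine top_le_iff.1 (hgen ▸ sup_le ((Subgroup.closure_le _).2 ?_) hK)
    rintro x (rfl | rfl) <;> assumption
  have hcen : ∀ z ∈ Subgroup.center Γ, ∀ g : Γ, π g * π z = π z * π g := fun z hz g => by
    rw [← map_mul, ← map_mul, (Subgroup.mem_center_iff.1 hz) g]
  have h1 : ∀ c : Γ, π a * π c = π c * π a → π b * π c = π c * π b → ∀ g, π g * π c = π c * π g := by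
    intro c ha hb g
    have : (Subgroup.centralizer {π c}).comap π = ⊤ := hgen' _
      (by simpa [Subgroup.mem_centralizer_singleton_iff] using ha)
      (by simpa [Subgroup.mem_centralizer_singleton_iff] using hb)
      (fun z hz => by
        simp only [Subgroup.mem_comap, Subgroup.mem_centralizer_singleton_iff]
        exact (hcen z hz c).symm)
    exact Subgroup.mem_centralizer_singleton_iff.1
      (show g ∈ (Subgroup.centralizer {π c}).comap π from this ▸ Subgroup.mem_top g)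
  have hA := h1 a rfl hab.symm
  have hB := h1 b hab rfl
  have hall : ∀ x y : Γ, π x * π y = π y * π x := fun x y =>
    h1 y (hA y).symm (hB y).symm x
  rw [commutator_def, Subgroup.commutator_le]
  intro x _ y _
  rw [← QuotientGroup.eq_one_iff]
  change π ⁅x, y⁆ = 1
  rw [map_commutatorElement, commutatorElement_eq_one_iff_mul_comm]
  exact hall x y

/-- Normality of a cyclic subgroup whose generator the two generators send to generators. -/
theorem zpowers_normal_of_two [Finite Γ] (a b : Γ)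
    (hgen : Subgroup.closure {a, b} ⊔ Subgroup.center Γ = ⊤) (t : Γ)
    (ha : a * t * a⁻¹ ∈ Subgroup.zpowers t) (hb : b * t * b⁻¹ ∈ Subgroup.zpowers t) :
    (Subgroup.zpowers t).Normal := by
  have key : ∀ g : Γ, g * t * g⁻¹ ∈ Subgroup.zpowers t →
      g ∈ Subgroup.normalizer (Subgroup.zpowers t : Set Γ) := by
    intro g hg
    have hmap : (Subgroup.zpowers t).map (MulAut.conj g).toMonoidHom = Subgroup.zpowers t := by
      refine Subgroup.eq_of_le_of_card_ge ?_ (le_of_eq ?_)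
      · rw [MonoidHom.map_zpowers, Subgroup.zpowers_le]; exact hg
      · rw [Subgroup.card_map_of_injective (MulAut.conj g).injective]
    rw [Subgroup.mem_normalizer_iff]
    intro x
    constructor
    · intro hx
      rw [← hmap]
      exact ⟨x, hx, rfl⟩
    · intro hx
      rw [← hmap] at hx
      obtain ⟨y, hy, hyx⟩ := hx
      exact (MulAut.conj g).injective hyx ▸ hy
  rw [← Subgroup.normalizer_eq_top_iff]
  refine top_le_iff.1 (hgen ▸ sup_le ((Subgroup.closure_le _).2 ?_) fun z hz => key z ?_)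
  · rintro x (rfl | rfl)
    exacts [key _ ha, key _ hb]
  · rw [← (Subgroup.mem_center_iff.1 hz) t, mul_inv_cancel_right]
    exact Subgroup.mem_zpowers t

section stem

variable [Finite Γ] {σ : Γ →* G}

/-- Reduction to the preimage of the two-generated subgroup. -/
theorem exists_commutator_form (hσ : Cfsg.IsStemExtension σ) {p k : ℕ} (hp : p.Prime) {a b : Γ}
    (hQ : ¬ p ∣ (Subgroup.closure {σ a, σ b}).index) {z : Γ} (hz : z ∈ σ.ker)
    (hord : z ^ p ^ k = 1) (t : Γ) (ht : ⁅a, b⁆ ∈ Subgroup.zpowers t)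
    (htab : t ∈ (Subgroup.closure {σ a, σ b}).comap σ)
    (ha : a * t * a⁻¹ ∈ Subgroup.zpowers t) (hb : b * t * b⁻¹ ∈ Subgroup.zpowers t) :
    z ∈ Subgroup.zpowers t := by
  obtain ⟨hzH, hmem⟩ := mem_commutator_comap hσ hp _ hQ hz hord
  set H := (Subgroup.closure {σ a, σ b}).comap σ with hH
  have haH : a ∈ H := Subgroup.subset_closure (Set.mem_insert _ _)
  have hbH : b ∈ H := Subgroup.subset_closure (Set.mem_insert_of_mem _ rfl)
  have hHle : H = Subgroup.closure {a, b} ⊔ σ.ker := by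
    rw [hH, ← Subgroup.comap_map_eq, MonoidHom.map_closure, Set.image_pair]
  have hgen : Subgroup.closure {(⟨a, haH⟩ : ↥H), ⟨b, hbH⟩} ⊔ Subgroup.center ↥H = ⊤ := by
    rw [eq_top_iff]
    rintro ⟨x, hx⟩ -
    have hx' : x ∈ Subgroup.closure {a, b} ⊔ σ.ker := hHle ▸ hx
    rw [Subgroup.mem_sup_of_normal_right] at hx'
    obtain ⟨y, hy, w, hw, rfl⟩ := hx'
    have hyH : y ∈ H := hHle ▸ Subgroup.mem_sup_left hy
    have hwH : w ∈ H := hHle ▸ Subgroup.mem_sup_right hw
    have : (⟨y * w, hx⟩ : ↥H) = ⟨y, hyH⟩ * ⟨w, hwH⟩ := rfl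
    rw [this]
    refine Subgroup.mul_mem_sup ?_ (Subgroup.mem_center_iff.2 fun q =>
      Subtype.ext ((Subgroup.mem_center_iff.1 (hσ.2.1 hw)) q))
    have hmap : (Subgroup.closure {(⟨a, haH⟩ : ↥H), ⟨b, hbH⟩}).map H.subtype
        = Subgroup.closure {a, b} := by
      rw [MonoidHom.map_closure, Set.image_pair]; rfl
    rw [← hmap] at hy
    obtain ⟨y', hy', hyy⟩ := hy
    have : y' = ⟨y, hyH⟩ := Subtype.ext hyy
    exact this ▸ hy'
  have down : ∀ x : ↥H, (x : Γ) ∈ Subgroup.zpowers t → x ∈ Subgroup.zpowers (⟨t, htab⟩ : ↥H) := by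
    intro x hx
    obtain ⟨m, hm⟩ := Subgroup.mem_zpowers_iff.1 hx
    exact Subgroup.mem_zpowers_iff.2 ⟨m, Subtype.ext (by simpa using hm)⟩
  have := zpowers_normal_of_two _ _ hgen (⟨t, htab⟩ : ↥H) (down _ ha) (down _ hb)
  have h := commutator_le_of_two _ _ hgen _ (down ⁅(⟨a, haH⟩ : ↥H), ⟨b, hbH⟩⁆ ht) hmem
  obtain ⟨m, hm⟩ := Subgroup.mem_zpowers_iff.1 h
  exact Subgroup.mem_zpowers_iff.2 ⟨m, by simpa using congrArg H.subtype hm⟩

/-- A subgroup `⟨r, s⟩` of index prime to `p` with `r` of order 8, `s` an involution and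
`s r s⁻¹ = r ^ 3` kills the p-part of the multiplier. -/
theorem eq_one_of_semidihedral (hσ : Cfsg.IsStemExtension σ) {p k : ℕ} (hp : p.Prime) (r s : G)
    (hr : orderOf r = 8) (hs : s ^ 2 = 1) (hrs : s * r * s⁻¹ = r ^ 3)
    (hQ : ¬ p ∣ (Subgroup.closure {r, s}).index) {z : Γ} (hz : z ∈ σ.ker) (hord : z ^ p ^ k = 1) :
    z = 1 := by
  obtain ⟨a, rfl⟩ := hσ.1 r
  obtain ⟨b, rfl⟩ := hσ.1 s
  have hcen : ∀ w : Γ, σ w = 1 → ∀ g : Γ, g * w = w * g := fun w hw g =>
    (Subgroup.mem_center_iff.1 (hσ.2.1 (MonoidHom.mem_ker.2 hw))) g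
  set c := b * a * b⁻¹ * (a ^ 3)⁻¹ with hcdef
  have hc : σ c = 1 := by
    rw [hcdef, map_mul, map_mul, map_mul, map_inv, map_inv, map_pow, hrs, mul_inv_cancel]
  have hac : ∀ g, Commute g c := fun g => hcen c hc g
  have hconj : b * a * b⁻¹ = c * a ^ 3 := by rw [hcdef, inv_mul_cancel_right]
  set t := c * a ^ 2 with htdef
  have hta : Commute a t := (hac a).mul_right (Commute.self_pow a 2)
  have hpow : ∀ n : ℕ, (c * a ^ 3) ^ n = c ^ n * a ^ (3 * n) := fun n => by
    rw [((hac (a ^ 3)).symm).mul_pow, pow_mul]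
  have hbt : b * t * b⁻¹ = t ^ 3 := by
    have h1 : b * t * b⁻¹ = b * c * b⁻¹ * (b * a * b⁻¹) ^ 2 := by
      rw [htdef, conj_pow]; group
    rw [h1, (hac b).eq, mul_inv_cancel_right, hconj, hpow, htdef, ((hac (a ^ 2)).symm).mul_pow,
      ← pow_mul, ← mul_assoc, ← pow_succ']
  have hb2 : b * b * a * (b * b)⁻¹ = a := by
    have hbb : σ (b * b) = 1 := by rw [map_mul, ← pow_two, hs]
    rw [← hcen _ hbb a, mul_inv_cancel_right]
  have ht4 : t ^ 4 = 1 := by
    have h1 : b * b * a * (b * b)⁻¹ = b * c * b⁻¹ * (b * a * b⁻¹) ^ 3 := by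
      rw [conj_pow, show b * b * a * (b * b)⁻¹ = b * (b * a * b⁻¹) * b⁻¹ by group, hconj]
      group
    rw [h1, (hac b).eq, mul_inv_cancel_right, hconj, hpow, ← mul_assoc, ← pow_succ'] at hb2
    have h2 : c ^ 4 * a ^ 8 * a = 1 * a := by
      rw [mul_assoc, ← pow_succ, one_mul]; exact hb2
    rw [htdef, ((hac (a ^ 2)).symm).mul_pow, ← pow_mul]
    exact mul_right_cancel h2
  have hab : ⁅a, b⁆ ∈ Subgroup.zpowers t := by
    have h : ⁅a, b⁆ = t⁻¹ := by
      rw [← commutatorElement_inv, inv_inj, commutatorElement_def, hconj, htdef, pow_succ,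
        ← mul_assoc, mul_inv_cancel_right]
    rw [h]; exact inv_mem (Subgroup.mem_zpowers t)
  have htab : t ∈ (Subgroup.closure {σ a, σ b}).comap σ := by
    rw [Subgroup.mem_comap, htdef, map_mul, hc, one_mul, map_pow]
    exact pow_mem (Subgroup.subset_closure (Set.mem_insert _ _)) 2
  have hzt := exists_commutator_form hσ hp hQ hz hord t hab htab
    (by rw [hta.eq, mul_inv_cancel_right]; exact Subgroup.mem_zpowers t)
    (by rw [hbt]; exact pow_mem (Subgroup.mem_zpowers t) 3)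
  obtain ⟨m, rfl⟩ := Subgroup.mem_zpowers_iff.1 hzt
  have h8 : (8 : ℤ) ∣ 2 * m := by
    have h := MonoidHom.mem_ker.1 hz
    rw [map_zpow, htdef, map_mul, hc, one_mul, map_pow, ← zpow_natCast, ← zpow_mul] at h
    have h' := orderOf_dvd_iff_zpow_eq_one.2 h
    rw [hr] at h'
    exact h'
  obtain ⟨l, rfl⟩ : (4 : ℤ) ∣ m := by omega
  rw [zpow_mul, show (4 : ℤ) = ((4 : ℕ) : ℤ) from rfl, zpow_natCast, ht4, one_zpow]

/-- A subgroup `⟨x, y⟩` of index prime to the odd prime `p`, with `x`, `y` commuting, `x ^ p = 1`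
and some `v` inverting `x` and centralising `y`, kills the p-part of the multiplier. -/
theorem eq_one_of_inverted_pair (hσ : Cfsg.IsStemExtension σ) {p k : ℕ} (hp : p.Prime) (hp2 : p ≠ 2)
    (x y v : G) (hxy : Commute x y) (hx : x ^ p = 1) (hvx : v * x * v⁻¹ = x⁻¹)
    (hvy : v * y * v⁻¹ = y) (hQ : ¬ p ∣ (Subgroup.closure {x, y}).index) {z : Γ} (hz : z ∈ σ.ker)
    (hord : z ^ p ^ k = 1) : z = 1 := by
  obtain ⟨a, rfl⟩ := hσ.1 x
  obtain ⟨b, rfl⟩ := hσ.1 y
  obtain ⟨w, rfl⟩ := hσ.1 v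
  have hcen : ∀ u : Γ, σ u = 1 → ∀ g : Γ, g * u = u * g := fun u hu g =>
    (Subgroup.mem_center_iff.1 (hσ.2.1 (MonoidHom.mem_ker.2 hu))) g
  set t := ⁅a, b⁆ with htdef
  have ht : σ t = 1 := by
    rw [htdef, map_commutatorElement, commutatorElement_eq_one_iff_mul_comm]; exact hxy
  have hfix : ∀ g : Γ, g * t * g⁻¹ = t := fun g => by rw [hcen t ht g, mul_inv_cancel_right]
  have hzt := exists_commutator_form hσ hp hQ hz hord t (Subgroup.mem_zpowers t)
    (by rw [Subgroup.mem_comap, ht]; exact one_mem _)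
    (by rw [hfix]; exact Subgroup.mem_zpowers t) (by rw [hfix]; exact Subgroup.mem_zpowers t)
  -- `t ^ 2 = 1` and `t ^ p = 1`
  have e1 : w * t * w⁻¹ = ⁅w * a * w⁻¹, w * b * w⁻¹⁆ := by
    rw [htdef, ← MulAut.conj_apply, map_commutatorElement, MulAut.conj_apply, MulAut.conj_apply]
  have hshift : ∀ u u' g g' : Γ, σ u = 1 → σ u' = 1 → ⁅u * g, u' * g'⁆ = ⁅g, g'⁆ := by
    intro u u' g g' hu hu'
    have c1 := hcen u hu
    have c2 := hcen u' hu'
    have hxy' : ∀ x y : Γ, ⁅x, y⁆ = x * y * (y * x)⁻¹ := fun x y => by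
      rw [commutatorElement_def]; group
    have e1 : u * g * (u' * g') = u * u' * (g * g') := by
      rw [mul_assoc u g, ← mul_assoc g, c2 g, mul_assoc u', ← mul_assoc u]
    have e2 : u' * g' * (u * g) = u * u' * (g' * g) := by
      rw [mul_assoc u' g', ← mul_assoc g', c1 g', mul_assoc u, ← mul_assoc u', c1 u']
    have hzc : ∀ q : Γ, q * (u * u') = u * u' * q := fun q => hcen _ (by rw [map_mul, hu, hu', one_mul]) q
    rw [hxy', hxy', e1, e2, mul_inv_rev (u * u') (g' * g)]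
    calc u * u' * (g * g') * ((g' * g)⁻¹ * (u * u')⁻¹)
        = u * u' * (g * g' * (g' * g)⁻¹) * (u * u')⁻¹ := by group
      _ = g * g' * (g' * g)⁻¹ := by rw [← hzc, mul_inv_cancel_right]
  obtain ⟨u, hu, hua⟩ : ∃ u, σ u = 1 ∧ w * a * w⁻¹ = u * a⁻¹ := ⟨w * a * w⁻¹ * a, by
    rw [map_mul, map_mul, map_mul, map_inv, hvx, inv_mul_cancel], by group⟩
  obtain ⟨u', hu', hub⟩ : ∃ u, σ u = 1 ∧ w * b * w⁻¹ = u * b := ⟨w * b * w⁻¹ * b⁻¹, by
    rw [map_mul, map_mul, map_mul, map_inv, map_inv, hvy, mul_inv_cancel], by group⟩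
  have hinv : ⁅a⁻¹, b⁆ = t⁻¹ := by
    have : ⁅a⁻¹, b⁆ = a⁻¹ * t⁻¹ * a := by
      rw [htdef, commutatorElement_def, commutatorElement_def]; group
    rw [this]
    have hti : a⁻¹ * t⁻¹ = t⁻¹ * a⁻¹ := by rw [← mul_inv_rev, ← mul_inv_rev, hcen t ht a]
    rw [hti, inv_mul_cancel_right]
  rw [hfix, hua, hub, hshift u u' _ _ hu hu', hinv] at e1
  have ht2 : t ^ 2 = 1 := by rw [pow_two]; exact mul_eq_one_iff_eq_inv.2 e1
  have htp : t ^ p = 1 := by
    have hconj : b * a * b⁻¹ = t⁻¹ * a := by rw [htdef, commutatorElement_def]; group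
    have hap : b * a ^ p * b⁻¹ = a ^ p := by
      rw [hcen (a ^ p) (by rw [map_pow, hx]) b, mul_inv_cancel_right]
    rw [← conj_pow, hconj, (Commute.inv_left (show Commute t a from (hcen t ht a).symm)).mul_pow, mul_eq_right,
      inv_pow, inv_eq_one] at hap
    exact hap
  have ht1 : t = 1 := by
    have h := pow_gcd_eq_one.2 ⟨ht2, htp⟩
    rwa [Nat.coprime_iff_gcd_eq_one.1
      ((Nat.coprime_primes Nat.prime_two hp).2 (Ne.symm hp2)), pow_one] at h
  rw [ht1, Subgroup.zpowers_one_eq_bot, Subgroup.mem_bot] at hzt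
  exact hzt

end stem

/-- A finite group all of whose stem extensions are isomorphisms has trivial multiplier. -/
theorem hasCyclicSchurMultiplier_one {G : Type u} [Group G] [Finite G]
    (h : ∀ (Γ : Type u) [Group Γ] [Finite Γ] (σ : Γ →* G), Cfsg.IsStemExtension σ →
      ∀ p : ℕ, p.Prime → ∀ (k : ℕ) (z : Γ), z ∈ σ.ker → z ^ p ^ k = 1 → z = 1) :
    Cfsg.HasCyclicSchurMultiplier G 1 := by
  refine ⟨⟨G, inferInstance, inferInstance, MonoidHom.id G, ⟨Function.surjective_id, ?_, ?_⟩, ?_⟩,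
    fun Γ _ _ σ hσ => ⟨1, fun z => ⟨1, ?_⟩⟩⟩
  · intro x hx
    rw [MonoidHom.mem_ker, MonoidHom.id_apply] at hx
    exact hx ▸ one_mem _
  · intro x hx
    rw [MonoidHom.mem_ker, MonoidHom.id_apply] at hx
    exact hx ▸ one_mem _
  · have : Unique ↥(MonoidHom.id G).ker :=
      { default := 1
        uniq := fun x => Subtype.ext (by simpa [MonoidHom.mem_ker] using x.2) }
    exact ⟨MulEquiv.ofUnique⟩
  · have hle : σ.ker ≤ ⊥ := le_of_primary fun p hp k z hz ho => Subgroup.mem_bot.2 (h Γ σ hσ p hp k z hz ho)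
    exact Subtype.ext (Subgroup.mem_bot.1 (hle z.2)).symm

end Cfsg.Agent.Schur
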