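import Cfsg.Agent.Lib.Schur.Trivial

/-!
A subgroup of type (2,2,2) permuted transitively by an element of order 7 kills the 2-part of the
Schur multiplier.
Main result: `eq_one_of_singer`.
-/

set_option autoImplicit false

open scoped commutatorElement

namespace Cfsg.Agent.Schur

universe u v

variable {G : Type v} [Group G] {Γ : Type u} [Group Γ] [Finite Γ] {σ : Γ →* G}

/-- Commutators of a stem extension only depend on the images. -/
theorem commutatorElement_congr (hσ : Cfsg.IsStemExtension σ) {g g' h h' : Γ} (hg : σ g = σ g')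
    (hh : σ h = σ h') : ⁅g, h⁆ = ⁅g', h'⁆ := by
  have hxy : ∀ x y : Γ, ⁅x, y⁆ = x * y * (y * x)⁻¹ := fun x y => by
    rw [commutatorElement_def]; group
  obtain ⟨u, hu, rfl⟩ : ∃ u, σ u = 1 ∧ g = u * g' :=
    ⟨g * g'⁻¹, by rw [map_mul, map_inv, hg, mul_inv_cancel], by group⟩
  obtain ⟨v, hv, rfl⟩ : ∃ u, σ u = 1 ∧ h = u * h' :=
    ⟨h * h'⁻¹, by rw [map_mul, map_inv, hh, mul_inv_cancel], by group⟩
  have hu' : ∀ q : Γ, q * u = u * q := fun q =>
    Subgroup.mem_center_iff.1 (hσ.2.1 (MonoidHom.mem_ker.2 hu)) q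
  have hv' : ∀ q : Γ, q * v = v * q := fun q =>
    Subgroup.mem_center_iff.1 (hσ.2.1 (MonoidHom.mem_ker.2 hv)) q
  have e1 : u * g' * (v * h') = u * v * (g' * h') := by
    rw [mul_assoc u g', ← mul_assoc g', hv' g', mul_assoc v, ← mul_assoc u]
  have e2 : v * h' * (u * g') = u * v * (h' * g') := by
    rw [mul_assoc v h', ← mul_assoc h', hu' h', mul_assoc u, ← mul_assoc v, hu' v]
  have hz : ∀ q : Γ, q * (u * v) = u * v * q := fun q => by
    rw [← mul_assoc, hu' q, mul_assoc, hv' q, ← mul_assoc]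
  rw [hxy, hxy, e1, e2, mul_inv_rev (u * v) (h' * g')]
  calc u * v * (g' * h') * ((h' * g')⁻¹ * (u * v)⁻¹)
      = u * v * (g' * h' * (h' * g')⁻¹) * (u * v)⁻¹ := by group
    _ = _ := by rw [← hz, mul_inv_cancel_right]

/-- The subgroup generated by three commuting elements is abelian. -/
theorem commute_of_mem_closure_triple {M : Type*} [Group M] {a b c x y : M} (hab : Commute a b)
    (hac : Commute a c) (hbc : Commute b c) (hx : x ∈ Subgroup.closure {a, b, c})
    (hy : y ∈ Subgroup.closure {a, b, c}) : Commute x y := by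
  have hle : Subgroup.closure ({a, b, c} : Set M) ≤ Subgroup.centralizer {a, b, c} := by
    rw [Subgroup.closure_le]
    intro u hu
    rw [SetLike.mem_coe, Subgroup.mem_centralizer_iff]
    intro v hv
    rcases hu with rfl | rfl | rfl <;> rcases hv with rfl | rfl | rfl <;>
      first | rfl | exact hab.eq | exact hab.symm.eq | exact hbc.eq | exact hbc.symm.eq |
        exact hac.eq | exact hac.symm.eq
  have hx' := Subgroup.closure_le_centralizer_centralizer _ hx
  rw [Subgroup.mem_centralizer_iff] at hx'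
  exact (hx' y (hle hy)).symm

/-- A subgroup `⟨a, b, c⟩` of index prime to `p` with `a, b, c` commuting and permuted by `n` as
`a ↦ b ↦ c ↦ a b` kills the p-part of the multiplier. -/
theorem eq_one_of_singer (hσ : Cfsg.IsStemExtension σ) {p k : ℕ} (hp : p.Prime) (a b c n : G)
    (hab : Commute a b) (hac : Commute a c) (hbc : Commute b c) (h1 : n * a * n⁻¹ = b)
    (h2 : n * b * n⁻¹ = c) (h3 : n * c * n⁻¹ = a * b)
    (hQ : ¬ p ∣ (Subgroup.closure {a, b, c}).index) {z : Γ} (hz : z ∈ σ.ker)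
    (hord : z ^ p ^ k = 1) : z = 1 := by
  obtain ⟨hzH, hmem⟩ := mem_commutator_comap hσ hp _ hQ hz hord
  obtain ⟨A, rfl⟩ := hσ.1 a
  obtain ⟨B, rfl⟩ := hσ.1 b
  obtain ⟨C, rfl⟩ := hσ.1 c
  obtain ⟨N, rfl⟩ := hσ.1 n
  have hcen : ∀ g h : Γ, Commute (σ g) (σ h) → ∀ q : Γ, q * ⁅g, h⁆ * q⁻¹ = ⁅g, h⁆ := by
    intro g h hgh q
    have : ⁅g, h⁆ ∈ σ.ker := by
      rw [MonoidHom.mem_ker, map_commutatorElement, commutatorElement_eq_one_iff_mul_comm]
      exact hgh
    rw [(Subgroup.mem_center_iff.1 (hσ.2.1 this)) q, mul_inv_cancel_right]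
  have hshift : ∀ g h g' h' : Γ, Commute (σ g) (σ h) → σ (N * g * N⁻¹) = σ g' →
      σ (N * h * N⁻¹) = σ h' → ⁅g, h⁆ = ⁅g', h'⁆ := by
    intro g h g' h' hgh eg eh
    rw [← commutatorElement_congr hσ eg eh, ← hcen g h hgh N, ← MulAut.conj_apply,
      map_commutatorElement, MulAut.conj_apply, MulAut.conj_apply]
  have e1 : ⁅A, B⁆ = ⁅B, C⁆ := hshift _ _ _ _ hab (by simpa using h1) (by simpa using h2)
  have e2 : ⁅B, C⁆ = ⁅C, A * B⁆ := hshift _ _ _ _ hbc (by simpa using h2) (by simpa using h3)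
  have e3 : ⁅C, A⁆ = ⁅A * B, B⁆ :=
    hshift _ _ _ _ hac.symm (by simpa using h3) (by simpa using h1)
  have e3' : ⁅A * B, B⁆ = ⁅A, B⁆ := by
    rw [commutatorElement_def, commutatorElement_def]; group
  have e2' : ⁅C, A * B⁆ = ⁅C, A⁆ * ⁅C, B⁆ := by
    have : ⁅C, A * B⁆ = ⁅C, A⁆ * (A * ⁅C, B⁆ * A⁻¹) := by
      rw [commutatorElement_def, commutatorElement_def, commutatorElement_def]; group
    rw [this, hcen C B hbc.symm A]
  have hAB : ⁅A, B⁆ = 1 := by
    have h := e1.trans e2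
    rw [e2', e3, e3', ← commutatorElement_inv B C, ← e1, mul_inv_cancel] at h
    exact h
  have cAB : Commute A B := commutatorElement_eq_one_iff_mul_comm.1 hAB
  have cBC : Commute B C := commutatorElement_eq_one_iff_mul_comm.1 (e1 ▸ hAB)
  have cCA : Commute C A :=
    commutatorElement_eq_one_iff_mul_comm.1 ((e3.trans e3').trans hAB)
  set H := (Subgroup.closure {σ A, σ B, σ C}).comap σ with hH
  have hHle : H ≤ Subgroup.closure {A, B, C} ⊔ σ.ker := by
    rw [hH, show ({σ A, σ B, σ C} : Set G) = σ '' {A, B, C} by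
      simp [Set.image_insert_eq], ← MonoidHom.map_closure, Subgroup.comap_map_eq]
  have hcomm : ∀ x ∈ Subgroup.closure {A, B, C} ⊔ σ.ker,
      ∀ y ∈ Subgroup.closure {A, B, C} ⊔ σ.ker, x * y = y * x := by
    have hgen : ∀ x ∈ Subgroup.closure {A, B, C}, ∀ y ∈ Subgroup.closure {A, B, C}, x * y = y * x := by
      intro x hx y hy
      exact commute_of_mem_closure_triple cAB cCA.symm cBC hx hy
    intro x hx y hy
    rw [Subgroup.mem_sup_of_normal_right] at hx hy
    obtain ⟨x1, hx1, x2, hx2, rfl⟩ := hx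
    obtain ⟨y1, hy1, y2, hy2, rfl⟩ := hy
    have c2 : ∀ q : Γ, q * x2 = x2 * q := Subgroup.mem_center_iff.1 (hσ.2.1 hx2)
    have d2 : ∀ q : Γ, q * y2 = y2 * q := Subgroup.mem_center_iff.1 (hσ.2.1 hy2)
    exact ((show Commute x1 y1 from hgen _ hx1 _ hy1).mul_right (d2 x1)).mul_left
      (show Commute x2 (y1 * y2) from (c2 _).symm)
  have hbot : commutator ↥H = ⊥ := by
    rw [commutator_def, Subgroup.commutator_eq_bot_iff_le_centralizer]
    rintro ⟨x, hx⟩ -
    rw [Subgroup.mem_centralizer_iff]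
    rintro ⟨y, hy⟩ -
    exact Subtype.ext (hcomm y (hHle hy) x (hHle hx))
  rw [hbot, Subgroup.mem_bot] at hmem
  exact congrArg Subtype.val hmem

end Cfsg.Agent.Schur
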