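import Cfsg.Agent.Lib.Schur.Basic

/-!
Criterion for the Schur multiplier to be cyclic of order 2.
Main result: `hasCyclicSchurMultiplier_two`.
-/

set_option autoImplicit false

namespace Cfsg.Agent.Schur

universe u

/-- If some stem extension has kernel of order 2, every odd-prime part is killed by a cyclic subgroup of
prime-to-p index and the 2-part by a dihedral one, then the multiplier is cyclic of order 2. -/
theorem hasCyclicSchurMultiplier_two {G : Type u} [Group G]
    (hex : ∃ (Γ : Type u) (_ : Group Γ) (_ : Finite Γ) (σ : Γ →* G),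
      Cfsg.IsStemExtension σ ∧ Nat.card σ.ker = 2)
    (hodd : ∀ p : ℕ, p.Prime → p ≠ 2 → ∃ r : G, ¬ p ∣ (Subgroup.zpowers r).index)
    (htwo : ∃ r s : G, s * r * s⁻¹ = r⁻¹ ∧ ¬ 2 ∣ (Subgroup.closure {r, s}).index) :
    Cfsg.HasCyclicSchurMultiplier G 2 := by
  constructor
  · obtain ⟨Γ, i1, i2, σ, hσ, hc⟩ := hex
    haveI : Fact (Nat.Prime 2) := ⟨Nat.prime_two⟩
    exact ⟨Γ, i1, i2, σ, hσ, ⟨mulEquivOfPrimeCardEq (p := 2) hc (by simp [Nat.card_eq_fintype_card])⟩⟩
  intro Γ _ _ σ hσ
  classical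
  obtain ⟨r, s, hrs, hi⟩ := htwo
  obtain ⟨c, hc⟩ := exists_bound_of_dihedral hσ Nat.prime_two r s hrs hi
  have hprim : ∀ p : ℕ, p.Prime → ∀ (k : ℕ) (z : Γ), z ∈ σ.ker → z ^ p ^ k = 1 →
      z ∈ Subgroup.zpowers c ∧ z ^ 2 = 1 := by
    intro p hp k z hz hord
    rcases eq_or_ne p 2 with rfl | h2
    · exact hc k z hz hord
    · obtain ⟨t, ht⟩ := hodd p hp h2
      obtain rfl := eq_one_of_cyclic hσ hp t ht hz hord
      exact ⟨one_mem _, one_pow 2⟩
  have hle : σ.ker ≤ Subgroup.zpowers c :=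
    le_of_primary fun p hp k z hz ho => (hprim p hp k z hz ho).1
  let S : Subgroup Γ :=
    { carrier := {z | z ∈ Subgroup.center Γ ∧ z ^ 2 = 1}
      mul_mem' := fun {x y} hx hy => ⟨mul_mem hx.1 hy.1, by
        have hcm : Commute x y := (Subgroup.mem_center_iff.1 hy.1) x
        rw [hcm.mul_pow, hx.2, hy.2, one_mul]⟩
      one_mem' := ⟨one_mem _, one_pow 2⟩
      inv_mem' := fun {x} hx => ⟨inv_mem hx.1, by rw [inv_pow, hx.2, inv_one]⟩ }
  have hS : σ.ker ≤ S :=
    le_of_primary fun p hp k z hz ho => ⟨hσ.2.1 hz, (hprim p hp k z hz ho).2⟩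
  haveI : Fintype ↥(Subgroup.zpowers c) := Fintype.ofFinite _
  haveI : Fintype ↥σ.ker := Fintype.ofFinite _
  have hcard : Fintype.card ↥σ.ker ≤ 2 := by
    refine le_trans ?_ (IsCyclic.card_pow_eq_one_le (α := ↥(Subgroup.zpowers c)) (n := 2) two_pos)
    rw [← Finset.card_univ]
    refine Finset.card_le_card_of_injOn (fun z => ⟨z.1, hle z.2⟩) (fun z _ => ?_) (fun x _ y _ h => ?_)
    · simp only [Finset.coe_filter, Set.mem_setOf_eq, Finset.mem_univ, true_and]
      exact Subtype.ext (hS z.2).2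
    · exact Subtype.ext (congrArg (fun w : ↥(Subgroup.zpowers c) => (w : Γ)) h)
  have ht : ∃ t : ↥σ.ker, t * t = 1 ∧ ∀ x : ↥σ.ker, x = 1 ∨ x = t := by
    by_cases h : ∃ t : ↥σ.ker, t ≠ 1
    · obtain ⟨t, ht⟩ := h
      refine ⟨t, Subtype.ext (by simpa [pow_two] using (hS t.2).2), fun x => ?_⟩
      by_contra hx
      push_neg at hx
      have h3 : ({1, t, x} : Finset ↥σ.ker).card = 3 := by
        rw [Finset.card_eq_three]
        exact ⟨1, t, x, ht.symm, hx.1.symm, hx.2.symm, rfl⟩
      have := Finset.card_le_univ ({1, t, x} : Finset ↥σ.ker)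
      omega
    · push_neg at h
      exact ⟨1, one_mul 1, fun x => Or.inl (h x)⟩
  obtain ⟨t, ht2, htop⟩ := ht
  let π : Multiplicative (ZMod 2) →* ↥σ.ker :=
    { toFun := fun x => if x.toAdd = 0 then 1 else t
      map_one' := by simp
      map_mul' := fun x y => by
        have key : ∀ a b : ZMod 2, (if a + b = 0 then (1 : ↥σ.ker) else t)
            = (if a = 0 then 1 else t) * (if b = 0 then 1 else t) := by
          intro a b
          have : ∀ a : ZMod 2, a = 0 ∨ a = 1 := by decide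
          rcases this a with rfl | rfl <;> rcases this b with rfl | rfl
          · simp
          · simp
          · simp
          · rw [if_pos (by decide), if_neg (by decide), ht2]
        exact key x.toAdd y.toAdd }
  refine ⟨π, fun z => ?_⟩
  rcases htop z with rfl | rfl
  · exact ⟨1, π.map_one⟩
  · exact ⟨Multiplicative.ofAdd 1, by simp [π]⟩

end Cfsg.Agent.Schur
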